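import Mathlib.AlgebraicGeometry.Sites.SmallAffineZariski
import Mathlib.AlgebraicGeometry.Morphisms.Affine
import Groth.Agent.Lib.QCoh.Affine

/-!
The relative spectrum of a quasi-coherent algebra.
-/

set_option autoImplicit false
set_option backward.isDefEq.respectTransparency false
universe u

open CategoryTheory AlgebraicGeometry TopologicalSpace Limits Opposite

namespace GrothLib.RelSpec

variable {S : Scheme.{u}}

lemma appLE_res_aux {X : Scheme.{u}} {A A' : CommRingCat.{u}} (a : Spec A ⟶ X) (b : Spec A' ⟶ X)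
    (r : A ⟶ A') (h : Spec.map r ≫ a = b) {W W' : X.Opens} (i : W' ⟶ W)
    (hA : ⊤ ≤ a ⁻¹ᵁ W) (hB : ⊤ ≤ b ⁻¹ᵁ W') :
    X.presheaf.map i.op ≫ b.appLE W' ⊤ hB ≫ (Scheme.ΓSpecIso A').hom =
      (a.appLE W ⊤ hA ≫ (Scheme.ΓSpecIso A).hom) ≫ r := by
  subst h
  rw [Category.assoc, ← Scheme.ΓSpecIso_naturality, Scheme.Hom.map_appLE_assoc, Scheme.Hom.appTop,
    Scheme.Hom.app_eq_appLE, ← Category.assoc (a.appLE W ⊤ hA), Scheme.Hom.appLE_comp_appLE]
  rfl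

lemma appLE_app_aux {X : Scheme.{u}} {A : CommRingCat.{u}} {V : S.Opens} (hV : IsAffineOpen V)
    (a : Spec A ⟶ X) (f : X ⟶ S) (α : Γ(S, V) ⟶ A) (h : a ≫ f = Spec.map α ≫ hV.fromSpec)
    (hA : ⊤ ≤ a ⁻¹ᵁ f ⁻¹ᵁ V) :
    f.app V ≫ a.appLE (f ⁻¹ᵁ V) ⊤ hA ≫ (Scheme.ΓSpecIso A).hom = α := by
  rw [← Category.assoc, Scheme.Hom.app_eq_appLE, Scheme.Hom.appLE_comp_appLE]
  have e0 : (⊤ : (Spec A).Opens) ≤ (Spec.map α ≫ hV.fromSpec) ⁻¹ᵁ V := h ▸ hA
  have e2 : (a ≫ f).appLE V ⊤ hA = (Spec.map α ≫ hV.fromSpec).appLE V ⊤ e0 := by congr 1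
  have hU0 : (⊤ : (Spec Γ(S, V)).Opens) ≤ hV.fromSpec ⁻¹ᵁ V := hV.fromSpec_preimage_self.ge
  rw [e2, ← Scheme.Hom.appLE_comp_appLE _ _ V ⊤ ⊤ hU0 le_top, Category.assoc]
  have h2 : hV.fromSpec.appLE V ⊤ hU0 = (Scheme.ΓSpecIso Γ(S, V)).inv := by
    rw [Scheme.Hom.appLE, hV.fromSpec_app_self, Category.assoc, ← Functor.map_comp]
    exact (congrArg (_ ≫ ·) ((Spec Γ(S, V)).presheaf.map_id (op ⊤))).trans (Category.comp_id _)
  have h3 : (Spec.map α).appLE ⊤ ⊤ le_top = (Spec.map α).appTop :=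
    (Scheme.Hom.app_eq_appLE (Spec.map α)).symm
  rw [h2, h3, Scheme.ΓSpecIso_naturality, Iso.inv_hom_id_assoc]

theorem exists_affineHom_of_coequifibered
    (B : Sheaf (Opens.grothendieckTopology S) CommRingCat.{u}) (φ : S.sheaf ⟶ B)
    (H : NatTrans.Coequifibered (Functor.whiskerLeft (Scheme.AffineZariskiSite.toOpensFunctor S).op φ.hom)) :
    ∃ (X : Scheme.{u}) (f : X ⟶ S) (_ : IsAffineHom f)
      (e : B ≅ (TopCat.Sheaf.pushforward CommRingCat.{u} f.base).obj X.sheaf),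
      (φ ≫ e.hom).hom = f.c := by
  let G := Scheme.AffineZariskiSite.toOpensFunctor S
  let d := Scheme.AffineZariskiSite.relativeGluingData H
  haveI : (d.functor ⋙ Scheme.forget).IsLocallyDirected :=
    Scheme.Cover.RelativeGluingData.instIsLocallyDirectedI₀CompFunctorForgetOfIsThin ..
  let f : d.glued ⟶ S := d.toBase
  let ιU : ∀ U : S.AffineZariskiSite, Spec (B.obj.obj (op U.1)) ⟶ d.glued := fun U => d.cover.f U
  have hopen : ∀ U, IsOpenImmersion (ιU U) := fun U => d.cover.map_prop U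
  have hpre : ∀ U : S.AffineZariskiSite, f ⁻¹ᵁ U.1 = (ιU U).opensRange := fun U => by
    simpa using! d.toBase_preimage_eq_opensRange_ι U
  have hle : ∀ U : S.AffineZariskiSite, (⊤ : (Spec (B.obj.obj (op U.1))).Opens) ≤ ιU U ⁻¹ᵁ f ⁻¹ᵁ U.1 :=
    fun U x _ => show ιU U x ∈ f ⁻¹ᵁ U.1 by rw [hpre U]; exact ⟨x, rfl⟩
  haveI haff : IsAffineHom f := by
    refine ⟨fun V hV => ?_⟩
    rw [hpre ⟨V, hV⟩]
    haveI := hopen ⟨V, hV⟩
    exact isAffineOpen_opensRange (ιU ⟨V, hV⟩)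
  let ψ : ∀ U : S.AffineZariskiSite, Γ(d.glued, f ⁻¹ᵁ U.1) ⟶ B.obj.obj (op U.1) := fun U =>
    (ιU U).appLE (f ⁻¹ᵁ U.1) ⊤ (hle U) ≫ (Scheme.ΓSpecIso _).hom
  have hψ : ∀ U, IsIso (ψ U) := by
    intro U
    haveI := hopen U
    have hW : f ⁻¹ᵁ U.1 = ιU U ''ᵁ ⊤ := by rw [hpre U, Scheme.Hom.image_top_eq_opensRange]
    haveI : IsIso ((ιU U).appLE (f ⁻¹ᵁ U.1) ⊤ (hle U)) := by
      have e1 : (ιU U).appLE (f ⁻¹ᵁ U.1) ⊤ (hle U) =
          d.glued.presheaf.map (eqToHom hW.symm).op ≫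
            (ιU U).appLE (ιU U ''ᵁ ⊤) ⊤ (by rw [Scheme.Hom.preimage_image_eq]) :=
        ((ιU U).map_appLE _ _).symm
      rw [e1, ← Scheme.Hom.appIso_hom']
      infer_instance
    exact IsIso.comp_isIso
  have hnat : ∀ {U V : S.AffineZariskiSite} (g : V ⟶ U),
      d.glued.presheaf.map ((TopologicalSpace.Opens.map f.base).map (G.map g)).op ≫ ψ V =
        ψ U ≫ B.obj.map (G.map g).op := by
    intro U V g
    exact appLE_res_aux (ιU U) (ιU V) _ (colimit.w d.functor g) _ (hle U) (hle V)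
  have hc : ∀ U : S.AffineZariskiSite, f.app U.1 ≫ ψ U = φ.hom.app (op U.1) := by
    intro U
    have hc' : ιU U ≫ f = Spec.map (φ.hom.app (op U.1)) ≫ U.2.fromSpec := by
      refine (d.ι_toBase U).trans ?_
      change (Spec.map (φ.hom.app (op U.1)) ≫ U.2.isoSpec.inv) ≫ U.1.ι = _
      rw [Category.assoc, U.2.isoSpec_inv_ι]
    exact appLE_app_aux U.2 (ιU U) f _ hc' (hle U)
  let i : G.op ⋙ B.obj ≅ G.op ⋙ ((TopCat.Sheaf.pushforward CommRingCat.{u} f.base).obj d.glued.sheaf).obj :=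
    NatIso.ofComponents (fun U => (@asIso _ _ _ _ (ψ U.unop) (hψ U.unop)).symm) (fun {U V} g => by
      haveI := hψ U.unop
      haveI := hψ V.unop
      change B.obj.map (G.map g.unop).op ≫ inv (ψ V.unop) =
        inv (ψ U.unop) ≫ d.glued.presheaf.map ((TopologicalSpace.Opens.map f.base).map (G.map g.unop)).op
      rw [IsIso.comp_inv_eq, Category.assoc, hnat g.unop, IsIso.inv_hom_id_assoc])
  let e : B ≅ (TopCat.Sheaf.pushforward CommRingCat.{u} f.base).obj d.glued.sheaf :=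
    Functor.IsCoverDense.sheafIso (G := G) i
  refine ⟨d.glued, f, haff, e, ?_⟩
  refine (Functor.IsCoverDense.restrictHomEquivHom (G := G) (K := Opens.grothendieckTopology S)
    (ℱ' := (TopCat.Sheaf.pushforward CommRingCat.{u} f.base).obj d.glued.sheaf)).symm.injective ?_
  have he : Functor.whiskerLeft G.op e.hom.hom = i.hom := by
    exact Functor.IsCoverDense.sheafHom_restrict_eq i.hom
  change Functor.whiskerLeft G.op (φ.hom ≫ e.hom.hom) = Functor.whiskerLeft G.op f.c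
  rw [Functor.whiskerLeft_comp, he]
  ext U : 2
  haveI := hψ U.unop
  change φ.hom.app (op U.unop.1) ≫ inv (ψ U.unop) = f.app U.unop.1
  rw [IsIso.comp_inv_eq, hc]

end GrothLib.RelSpec
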