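import Groth.Prelude.Def_RelSpec
import Groth.Agent.Lib.RelSpec.Basic

/-!
# Quasi-coherent algebras and maps into them from data on the affine opens
-/

set_option autoImplicit false
set_option backward.isDefEq.respectTransparency false

universe u

open CategoryTheory AlgebraicGeometry TopologicalSpace Limits Opposite

noncomputable section

namespace GrothLib.RelSpec

variable {S : Scheme.{u}}

/-- The inclusion of the affine opens. -/
abbrev aff (S : Scheme.{u}) : S.AffineZariskiSite ⥤ S.Opens := Scheme.AffineZariskiSite.toOpensFunctor S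

/-- A coequifibered algebra on the affine opens comes from a quasi-coherent algebra. -/
theorem exists_qcAlg_of_coequifibered (F : S.AffineZariskiSiteᵒᵖ ⥤ CommRingCat.{u})
    (α : (aff S).op ⋙ S.presheaf ⟶ F) (H : α.Coequifibered) :
    ∃ (A : _root_.RelSpec.QCAlg S) (i : F ≅ (aff S).op ⋙ A.presheaf),
      α ≫ i.hom = (aff S).op.whiskerLeft A.str := by
  let d := Scheme.AffineZariskiSite.relativeGluingData H
  haveI : (d.functor ⋙ Scheme.forget).IsLocallyDirected :=
    Scheme.Cover.RelativeGluingData.instIsLocallyDirectedI₀CompFunctorForgetOfIsThin ..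
  let f : d.glued ⟶ S := d.toBase
  let ιU : ∀ U : S.AffineZariskiSite, Spec (F.obj (op U)) ⟶ d.glued := fun U => d.cover.f U
  have hopen : ∀ U, IsOpenImmersion (ιU U) := fun U => d.cover.map_prop U
  have hpre : ∀ U : S.AffineZariskiSite, f ⁻¹ᵁ U.1 = (ιU U).opensRange := fun U => by
    simpa using! d.toBase_preimage_eq_opensRange_ι U
  have hle : ∀ U : S.AffineZariskiSite, (⊤ : (Spec (F.obj (op U))).Opens) ≤ ιU U ⁻¹ᵁ f ⁻¹ᵁ U.1 :=
    fun U x _ => show ιU U x ∈ f ⁻¹ᵁ U.1 by rw [hpre U]; exact ⟨x, rfl⟩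
  haveI haff : IsAffineHom f := by
    refine ⟨fun V hV => ?_⟩
    rw [hpre ⟨V, hV⟩]
    haveI := hopen ⟨V, hV⟩
    exact isAffineOpen_opensRange (ιU ⟨V, hV⟩)
  let ψ : ∀ U : S.AffineZariskiSite, Γ(d.glued, f ⁻¹ᵁ U.1) ⟶ F.obj (op U) := fun U =>
    (ιU U).appLE (f ⁻¹ᵁ U.1) ⊤ (hle U) ≫ (Scheme.ΓSpecIso _).hom
  have hψ : ∀ U, IsIso (ψ U) := by
    intro U
    haveI := hopen U
    have hW : f ⁻¹ᵁ U.1 = ιU U ''ᵁ ⊤ := by rw [hpre U, Scheme.Hom.image_top_eq_opensRange]
    haveI : IsIso ((ιU U).appLE (f ⁻¹ᵁ U.1) ⊤ (hle U)) := by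
      have e1 : (ιU U).appLE (f ⁻¹ᵁ U.1) ⊤ (hle U) =
          d.glued.presheaf.map (eqToHom hW.symm).op ≫
            (ιU U).appLE (ιU U ''ᵁ ⊤) ⊤ (by rw [Scheme.Hom.preimage_image_eq]) :=
        ((ιU U).map_appLE _ _).symm
      rw [e1, ← Scheme.Hom.appIso_hom']
      infer_instance
    exact IsIso.comp_isIso
  have hnat : ∀ {U V : S.AffineZariskiSite} (g : V ⟶ U),
      d.glued.presheaf.map ((TopologicalSpace.Opens.map f.base).map ((aff S).map g)).op ≫ ψ V =
        ψ U ≫ F.map g.op := by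
    intro U V g
    exact appLE_res_aux (ιU U) (ιU V) _ (colimit.w d.functor g) _ (hle U) (hle V)
  have hc : ∀ U : S.AffineZariskiSite, f.app U.1 ≫ ψ U = α.app (op U) := by
    intro U
    have hc' : ιU U ≫ f = Spec.map (α.app (op U)) ≫ U.2.fromSpec := by
      refine (d.ι_toBase U).trans ?_
      change (Spec.map (α.app (op U)) ≫ U.2.isoSpec.inv) ≫ U.1.ι = _
      rw [Category.assoc, U.2.isoSpec_inv_ι]
    exact appLE_app_aux U.2 (ιU U) f _ hc' (hle U)
  let i : F ≅ (aff S).op ⋙ (_root_.RelSpec.QCAlg.directImage f).presheaf :=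
    NatIso.ofComponents (fun U => (@asIso _ _ _ _ (ψ U.unop) (hψ U.unop)).symm) (fun {U V} g => by
      haveI := hψ U.unop
      haveI := hψ V.unop
      change F.map g.unop.op ≫ inv (ψ V.unop) =
        inv (ψ U.unop) ≫ d.glued.presheaf.map ((TopologicalSpace.Opens.map f.base).map ((aff S).map g.unop)).op
      rw [IsIso.comp_inv_eq, Category.assoc, hnat g.unop, IsIso.inv_hom_id_assoc])
  refine ⟨_root_.RelSpec.QCAlg.directImage f, i, ?_⟩
  ext U : 2
  haveI := hψ U.unop
  change α.app (op U.unop) ≫ inv (ψ U.unop) = f.app U.unop.1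
  rw [IsIso.comp_inv_eq, hc]

/-- Restriction of sections of a module. -/
abbrev mr (M : S.Modules) {U V : S.Opens} (h : V ≤ U) : Γ(M, U) →+ Γ(M, V) := (M.presheaf.map (homOfLE h).op).hom

theorem mr_smul (M : S.Modules) {U V : S.Opens} (h : V ≤ U) (r : Γ(S, U)) (x : Γ(M, U)) :
    mr M h (r • x) = (S.presheaf.map (homOfLE h).op).hom r • mr M h x :=
  Scheme.Modules.map_smul M _ r x

/-- Maps of modules agree if they agree on affine opens. -/
theorem modHom_ext {M N : S.Modules} {φ ψ : M ⟶ N}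
    (h : ∀ (U : S.Opens), IsAffineOpen U → ∀ x : Γ(M, U), φ.app U x = ψ.app U x) : φ = ψ := by
  refine (Scheme.Modules.toPresheaf S).map_injective ?_
  refine (Functor.IsCoverDense.restrictHomEquivHom (G := aff S) (K := Opens.grothendieckTopology S)
    (ℱ' := (⟨N.presheaf, N.isSheaf⟩ : TopCat.Sheaf AddCommGrpCat.{u} S.carrier))).symm.injective ?_
  refine NatTrans.ext (funext fun U => ?_)
  exact ConcreteCategory.hom_ext _ _ fun x => h U.unop.1 U.unop.2 x

/-- A compatible family of linear maps on affine opens gives a map of modules. -/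
theorem exists_modHom {M N : S.Modules}
    (φ : ∀ U : S.Opens, IsAffineOpen U → (Γ(M, U) →+ Γ(N, U)))
    (hsmul : ∀ (U : S.Opens) (hU : IsAffineOpen U) (r : Γ(S, U)) (x : Γ(M, U)), φ U hU (r • x) = r • φ U hU x)
    (hnat : ∀ (U V : S.Opens) (hU : IsAffineOpen U) (hV : IsAffineOpen V) (h : V ≤ U) (x : Γ(M, U)),
      φ V hV (mr M h x) = mr N h (φ U hU x)) :
    ∃ Φ : M ⟶ N, ∀ (U : S.Opens) (hU : IsAffineOpen U) (x : Γ(M, U)), Φ.app U x = φ U hU x := by
  let t : (aff S).op ⋙ M.presheaf ⟶ (aff S).op ⋙ N.presheaf :=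
    { app := fun U => AddCommGrpCat.ofHom (φ U.unop.1 U.unop.2)
      naturality := fun U V i => ConcreteCategory.hom_ext _ _ fun x =>
        hnat U.unop.1 V.unop.1 U.unop.2 V.unop.2 (leOfHom ((aff S).map i.unop)) x }
  let e := Functor.IsCoverDense.restrictHomEquivHom (G := aff S) (K := Opens.grothendieckTopology S)
    (ℱ := M.presheaf) (ℱ' := (⟨N.presheaf, N.isSheaf⟩ : TopCat.Sheaf AddCommGrpCat.{u} S.carrier))
  let T : M.presheaf ⟶ N.presheaf := e t
  have hT : ∀ (U : S.Opens) (hU : IsAffineOpen U) (x : Γ(M, U)), T.app (op U) x = φ U hU x := fun U hU x =>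
    ConcreteCategory.congr_hom (NatTrans.congr_app (e.symm_apply_apply t) (op ⟨U, hU⟩)) x
  have hlin : ∀ (U : S.Opens) (r : Γ(S, U)) (x : Γ(M, U)),
      (show Γ(N, U) from T.app (op U) (r • x)) = r • (show Γ(N, U) from T.app (op U) x) := by
    intro U r x
    choose V hV hpV hVU using fun p : U => (exists_isAffineOpen_mem_and_subset (x := p.1) (U := U) p.2)
    refine TopCat.Sheaf.eq_of_locally_eq' ⟨N.presheaf, N.isSheaf⟩ V U (fun p => homOfLE (hVU p))
      (fun p hp => Opens.mem_iSup.mpr ⟨⟨p, hp⟩, hpV ⟨p, hp⟩⟩) _ _ fun p => ?_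
    have n1 := ConcreteCategory.congr_hom (T.naturality (homOfLE (hVU p)).op) (r • x)
    have n2 := ConcreteCategory.congr_hom (T.naturality (homOfLE (hVU p)).op) x
    refine n1.symm.trans ?_
    refine (congrArg (T.app (op (V p))) (mr_smul M (hVU p) r x)).trans ?_
    refine (hT _ (hV p) _).trans ((hsmul _ (hV p) _ _).trans ?_)
    refine Eq.trans ?_ (mr_smul N (hVU p) r _).symm
    exact congrArg (_ • ·) ((hT _ (hV p) _).symm.trans n2)
  exact ⟨⟨PresheafOfModules.homMk T fun U r x => hlin U.unop r x⟩, hT⟩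

/-- Maps of quasi-coherent algebras agree if they agree on affine opens. -/
theorem algHom_ext {A B : _root_.RelSpec.QCAlg S} {φ ψ : A ⟶ B}
    (h : ∀ (U : S.Opens), IsAffineOpen U → φ.hom.app (op U) = ψ.hom.app (op U)) : φ = ψ := by
  refine _root_.RelSpec.QCAlg.hom_ext ?_
  refine (Functor.IsCoverDense.restrictHomEquivHom (G := aff S) (K := Opens.grothendieckTopology S)
    (ℱ' := (⟨B.presheaf, B.isSheaf⟩ : TopCat.Sheaf CommRingCat.{u} S.carrier))).symm.injective ?_
  exact NatTrans.ext (funext fun U => h U.unop.1 U.unop.2)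

/-- A compatible family of algebra maps on affine opens gives a map of quasi-coherent algebras. -/
theorem exists_algHom {A B : _root_.RelSpec.QCAlg S}
    (φ : ∀ U : S.Opens, IsAffineOpen U → (A.presheaf.obj (op U) →+* B.presheaf.obj (op U)))
    (hstr : ∀ (U : S.Opens) (hU : IsAffineOpen U) (r : Γ(S, U)),
      φ U hU ((A.str.app (op U)).hom r) = (B.str.app (op U)).hom r)
    (hnat : ∀ (U V : S.Opens) (hU : IsAffineOpen U) (hV : IsAffineOpen V) (h : V ≤ U) (x : A.presheaf.obj (op U)),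
      φ V hV ((A.presheaf.map (homOfLE h).op).hom x) = (B.presheaf.map (homOfLE h).op).hom (φ U hU x)) :
    ∃ Φ : A ⟶ B, ∀ (U : S.Opens) (hU : IsAffineOpen U), (Φ.hom.app (op U)).hom = φ U hU := by
  let t : (aff S).op ⋙ A.presheaf ⟶ (aff S).op ⋙ B.presheaf :=
    { app := fun U => CommRingCat.ofHom (φ U.unop.1 U.unop.2)
      naturality := fun U V i => ConcreteCategory.hom_ext _ _ fun x =>
        hnat U.unop.1 V.unop.1 U.unop.2 V.unop.2 (leOfHom ((aff S).map i.unop)) x }
  let e := Functor.IsCoverDense.restrictHomEquivHom (G := aff S) (K := Opens.grothendieckTopology S)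
    (ℱ := A.presheaf) (ℱ' := (⟨B.presheaf, B.isSheaf⟩ : TopCat.Sheaf CommRingCat.{u} S.carrier))
  let T : A.presheaf ⟶ B.presheaf := e t
  have hT : ∀ (U : S.Opens) (hU : IsAffineOpen U), T.app (op U) = CommRingCat.ofHom (φ U hU) := fun U hU =>
    NatTrans.congr_app (e.symm_apply_apply t) (op ⟨U, hU⟩)
  have hcomm : A.str ≫ T = B.str := by
    refine (Functor.IsCoverDense.restrictHomEquivHom (G := aff S) (K := Opens.grothendieckTopology S)
      (ℱ' := (⟨B.presheaf, B.isSheaf⟩ : TopCat.Sheaf CommRingCat.{u} S.carrier))).symm.injective ?_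
    refine NatTrans.ext (funext fun U => ?_)
    show A.str.app (op U.unop.1) ≫ T.app (op U.unop.1) = B.str.app (op U.unop.1)
    rw [hT _ U.unop.2]
    exact ConcreteCategory.hom_ext _ _ fun r => hstr _ U.unop.2 r
  exact ⟨⟨T, hcomm⟩, fun U hU => congrArg (·.hom) (hT U hU)⟩

end GrothLib.RelSpec
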